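import Cfsg.Agent.H440.Bs.Iso
import Mathlib.LinearAlgebra.Transvection.Basic

/-!
# S5716, UK3: quadratic forms and their groups `E Q` (helper27)
-/

set_option autoImplicit false

namespace Cfsg.Agent.H27.UK

open Module Cfsg.Agent.H847.Bs Cfsg.Agent.LieClassical.OrthCore QuadraticMap
open Cfsg.Agent.LieClassical.OrthTrans Cfsg.Agent.LieClassical.OrthFinite

variable {F U : Type*} [Field F] [AddCommGroup U] [Module F U]

/-- the polar form of `Q'` is nondegenerate -/
theorem quad_nd [Finite F] [Module.Finite F U] {K : Subgroup (U ≃ₗ[F] U)} (hirr : IrrG K) (hd : 3 ≤ finrank F U)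
    {Q' : QuadraticForm F U}
    (hns : ∀ v, Q' v = 0 → (∀ w, polar Q' v w = 0) → v = 0) (hsim : ∀ h ∈ K, ∃ c : F, ∀ v, Q' (h v) = c * Q' v) :
    (frmQ Q').Nd := by
  let R : Submodule F U :=
    { carrier := {v | ∀ w, polar Q' v w = 0}
      add_mem' := fun {a b} ha hb w => by rw [polar_add_left, ha w, hb w, add_zero]
      zero_mem' := fun w => polar_zero_left _ w
      smul_mem' := fun c v hv w => by rw [polar_smul_left, hv w, smul_zero] }
  have hR : ∀ v, v ∈ R ↔ ∀ w, polar Q' v w = 0 := fun v => Iff.rfl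
  have hinv : ∀ h ∈ K, Inv h R := by
    intro h hh v hv w
    obtain ⟨c, hc⟩ := hsim h hh
    obtain ⟨w, rfl⟩ := h.surjective w
    have h1 : polar Q' (h v) (h w) = c * polar Q' v w := by
      rw [polar, polar, ← map_add, hc, hc, hc]
      ring
    rw [h1, hv w, mul_zero]
  rcases hirr R hinv with h | h
  · intro x hx
    have : x ∈ R := hx
    rw [h] at this
    exact (Submodule.mem_bot F).1 this
  · exfalso
    have h0 : ∀ v w, polar Q' v w = 0 := fun v w => by
      have : v ∈ R := by rw [h]; trivial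
      exact this w
    have hns' : ∀ v, Q' v = 0 → v = 0 := fun v hv => hns v hv (h0 v)
    have hnt : Nontrivial U := Module.nontrivial_of_finrank_pos (R := F) (by omega)
    obtain ⟨v, hv0⟩ := exists_ne (0 : U)
    have hQv : Q' v ≠ 0 := fun h => hv0 (hns' v h)
    have h2 : (2 : F) = 0 := by
      have := polar_self' (Q := Q') v
      rw [h0] at this
      exact (mul_eq_zero.1 this.symm).resolve_right hQv
    have hsq : ∀ a : F, ∃ c, a = c * c := by
      intro a
      have h5 : ringChar F = 2 := by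
        have h3 : ringChar F ∣ 2 := ringChar.dvd (by exact_mod_cast h2)
        rcases (Nat.dvd_prime Nat.prime_two).1 h3 with h4 | h4
        · exact absurd h4 (by
            have := CharP.ringChar_ne_one (R := F)
            exact this)
        · exact h4
      obtain ⟨c, hc⟩ := FiniteField.isSquare_of_char_two h5 a
      exact ⟨c, hc⟩
    -- every vector is a multiple of `v`
    have hspan : ∀ u : U, ∃ c : F, c • v = u := by
      intro u
      obtain ⟨c, hc⟩ := hsq (Q' u * (Q' v)⁻¹)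
      refine ⟨c, ?_⟩
      have h3 : Q' (c • v - u) = 0 := by
        rw [sub_eq_add_neg, Q_add, QuadraticMap.map_smul, QuadraticMap.map_neg, h0, add_zero, smul_eq_mul, ← hc,
          inv_mul_cancel_right₀ hQv, ← two_mul, h2, zero_mul]
      exact sub_eq_zero.1 (hns' _ h3)
    have : finrank F U ≤ 1 := finrank_le_one v hspan
    omega

theorem nondeg_of_nd {Q : QuadraticForm F U} (h : (frmQ Q).Nd) : Nondeg Q := fun x hx => h x hx

/-- a partner of a singular vector outside a given vector's span -/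
theorem exists_mover [Module.Finite F U] {Q : QuadraticForm F U} (hQ : Nondeg Q) (hd : 4 ≤ finrank F U) {v : U}
    (hv : Q v = 0) (hv0 : v ≠ 0) (y : U) (hy : polar Q v y = 0) :
    ∃ g ∈ E Q, g y = y ∧ ∃ z, g z = z - v := by
  -- `w ∈ v^⊥ ∩ y^⊥`, `w ∉ ⟨v⟩`
  obtain ⟨w, hw1, hw2, hw3⟩ : ∃ w, polar Q v w = 0 ∧ polar Q w y = 0 ∧ ∀ c : F, w ≠ c • v := by
    by_contra hcon
    push Not at hcon
    let f : U →ₗ[F] (Fin 2 → F) := LinearMap.pi fun i => polarBilin Q (![v, y] i)
    have h1 := LinearMap.finrank_range_add_finrank_ker f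
    have h2 : finrank F (LinearMap.range f) ≤ 2 := by
      refine le_trans (Submodule.finrank_le _) ?_
      rw [Module.finrank_fin_fun]
    have h3 : LinearMap.ker f ≤ Submodule.span F {v} := by
      intro w hw
      have hw' := LinearMap.mem_ker.1 hw
      have ha : polar Q v w = 0 := by simpa [f] using congrFun hw' 0
      have hb : polar Q y w = 0 := by simpa [f] using congrFun hw' 1
      obtain ⟨c, hc⟩ := hcon w ha (by rw [polar_comm]; exact hb)
      exact Submodule.mem_span_singleton.2 ⟨c, hc.symm⟩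
    have h4 := Submodule.finrank_mono h3
    have h5 := finrank_span_singleton (K := F) hv0
    omega
  obtain ⟨z, hz1, hz2⟩ := exists_sep hQ hw3
  refine ⟨siegel Q v w hv hw1, siegel_mem_E hv hw1, ?_, z, ?_⟩
  · rw [siegel_apply, hy, hw2]
    simp
  · rw [siegel_apply, hz1, hz2]
    simp

/-- `v^⊥ ≤ v^⊥₀` for `Q'`-singular vectors -/
theorem quad_perp [Module.Finite F U] {Φ₀ : Frm F U} {Q' : QuadraticForm F U} (hnd : (frmQ Q').Nd)
    (hd : 5 ≤ finrank F U)
    (h : E Q' ≤ Φ₀.Iso) : ∀ v, Q' v = 0 → ∀ y, polar Q' y v = 0 → Φ₀.B y v = 0 := by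
  intro v hv y hy
  by_cases hv0 : v = 0
  · rw [hv0]
    exact Cfsg.Agent.H440.Bs.B_zero_right Φ₀ y
  obtain ⟨g, hg, hgy, z, hz⟩ := exists_mover (nondeg_of_nd hnd) (by omega) hv hv0 y (by rw [polar_comm]; exact hy)
  have h1 := (h hg).1 y z
  rw [hgy, hz, sub_eq_add_neg, Φ₀.add_right] at h1
  have h2 : Φ₀.B y (-v) = 0 := left_eq_add.1 h1.symm
  have h3 := Φ₀.smul_right (-1) y (-v)
  rw [h2, mul_zero, neg_smul, one_smul, neg_neg] at h3
  exact h3

/-- the singular vectors span -/
theorem span_sing [Finite F] [Module.Finite F U] {Q : QuadraticForm F U} (hQ : Nondeg Q) (hd : 3 ≤ finrank F U)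
    (S : Submodule F U) (hS : ∀ v, Q v = 0 → v ∈ S) : S = ⊤ := by
  obtain ⟨v, hv0, hv, -⟩ := exists_sing_perp (Q := Q) (n := 0) ![] (by omega)
  -- a vector not orthogonal to some singular vector is in `S`
  have key : ∀ v u : U, Q v = 0 → polar Q v u ≠ 0 → u ∈ S := by
    intro v u hv hvu
    have h1 : Q (u - (Q u * (polar Q v u)⁻¹) • v) = 0 := by
      rw [sub_eq_add_neg, ← neg_smul, Q_add, QuadraticMap.map_smul, hv, polar_smul_right, polar_comm Q u v,
        smul_eq_mul, smul_eq_mul, mul_zero, add_zero, neg_mul, inv_mul_cancel_right₀ hvu, add_neg_cancel]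
    have h2 : u = (u - (Q u * (polar Q v u)⁻¹) • v) + (Q u * (polar Q v u)⁻¹) • v := by abel
    rw [h2]
    exact S.add_mem (hS _ h1) (S.smul_mem _ (hS _ hv))
  obtain ⟨u', hu'⟩ := hQ.exists_polar_ne hv0
  rw [eq_top_iff]
  rintro u -
  by_cases hu : polar Q v u = 0
  · have h1 : u + u' ∈ S := key v _ hv (by rw [polar_add_right, hu, zero_add]; exact hu')
    have h2 : u' ∈ S := key v _ hv hu'
    have h3 := S.sub_mem h1 h2
    rwa [add_sub_cancel_right] at h3
  · exact key v u hv hu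

/-- two quadratic forms with proportional polar forms, both fixed by `E Q'` -/
theorem quad_eq [Finite F] [Module.Finite F U] {Q₀ Q' : QuadraticForm F U} (hnd : (frmQ Q').Nd)
    (hd : 5 ≤ finrank F U) {c : F}
    (hB : ∀ x y, polar Q₀ x y = c * polar Q' x y) (h : E Q' ≤ O Q₀) : ∀ v, Q₀ v = c * Q' v := by
  have hQ := nondeg_of_nd hnd
  have hadd : ∀ x y, Q₀ (x + y) - c * Q' (x + y) = (Q₀ x - c * Q' x) + (Q₀ y - c * Q' y) := by
    intro x y
    rw [Q_add, Q_add, hB]
    ring
  have hsmul : ∀ (a : F) x, Q₀ (a • x) - c * Q' (a • x) = a * a * (Q₀ x - c * Q' x) := by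
    intro a x
    rw [QuadraticMap.map_smul, QuadraticMap.map_smul, smul_eq_mul, smul_eq_mul]
    ring
  let S : Submodule F U :=
    { carrier := {v | Q₀ v - c * Q' v = 0}
      add_mem' := fun {a b} ha hb => by
        show Q₀ (a + b) - c * Q' (a + b) = 0
        rw [hadd, show Q₀ a - c * Q' a = 0 from ha, show Q₀ b - c * Q' b = 0 from hb, add_zero]
      zero_mem' := by
        show Q₀ 0 - c * Q' 0 = 0
        rw [QuadraticMap.map_zero, QuadraticMap.map_zero, mul_zero, sub_zero]
      smul_mem' := fun a v hv => by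
        show Q₀ (a • v) - c * Q' (a • v) = 0
        rw [hsmul, show Q₀ v - c * Q' v = 0 from hv, mul_zero] }
  have hS : S = ⊤ := by
    refine span_sing hQ (by omega) S fun v hv => ?_
    by_cases hv0 : v = 0
    · rw [hv0]; exact S.zero_mem
    obtain ⟨g, hg, -, z, hz⟩ := exists_mover hQ (by omega) hv hv0 0 (polar_zero_right _ _)
    have h1 : Q₀ (g z) = Q₀ z := h hg z
    have h2 : Q' (g z) = Q' z := E_le_O hg z
    have h3 := hadd z (-v)
    rw [← sub_eq_add_neg, ← hz, h1, h2] at h3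
    have h4 : Q₀ (-v) - c * Q' (-v) = 0 := left_eq_add.1 h3
    rw [QuadraticMap.map_neg, QuadraticMap.map_neg] at h4
    exact h4
  intro v
  have : v ∈ S := by rw [hS]; trivial
  exact sub_eq_zero.1 this

theorem E_le {Q₀ Q' : QuadraticForm F U} {c : F} (hc : c ≠ 0) (h : ∀ v, Q₀ v = c * Q' v) : E Q₀ ≤ E Q' := by
  have hp : ∀ x y, polar Q₀ x y = c * polar Q' x y := by
    intro x y
    rw [polar, polar, h, h, h]
    ring
  rw [E, Subgroup.closure_le]
  rintro _ ⟨u, w, hu, hw, rfl⟩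
  have hu' : Q' u = 0 := by
    rw [h] at hu
    exact (mul_eq_zero.1 hu).resolve_left hc
  have hw' : polar Q' u (c • w) = 0 := by
    rw [polar_smul_right, smul_eq_mul, ← hp, hw]
  have : siegel Q₀ u w hu hw = siegel Q' u (c • w) hu' hw' := by
    ext v
    rw [siegel_apply, siegel_apply, hp, hp, h, polar_smul_left, QuadraticMap.map_smul, smul_eq_mul, smul_eq_mul]
    module
  rw [this]
  exact siegel_mem_E hu' hw'

/-- the symplectic group does not fix a quadratic form -/
theorem sp_not_quad [Finite F] [Module.Finite F U] {Ψ : Frm F U} (hΨ : IsSp Ψ) {Q₀ : QuadraticForm F U}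
    (h0 : (frmQ Q₀).Nd) (hd : 5 ≤ finrank F U)
    {c : F} (hB : ∀ x y, polar Q₀ x y = c * Ψ.B x y) (h : Ψ.Iso ≤ (frmQ Q₀).Iso) : False := by
  obtain ⟨v, hv0, hv, -⟩ := exists_sing_perp (Q := Q₀) (n := 0) ![] (by omega)
  have hc : c ≠ 0 := by
    rintro rfl
    exact hv0 (h0 v fun y => by
      show polar Q₀ v y = 0
      rw [hB, zero_mul])
  have hsk : ∀ x y, Ψ.B x y = - Ψ.B y x := by
    intro x y
    have h1 := hΨ.alt (x + y)
    rw [Ψ.add_left, Ψ.add_right, Ψ.add_right, hΨ.alt, hΨ.alt, zero_add, add_zero] at h1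
    exact eq_neg_of_add_eq_zero_left h1
  have hfv : Cfsg.Agent.H440.Bs.lin Ψ v v = 0 := hΨ.alt v
  let t : U ≃ₗ[F] U := LinearEquiv.transvection hfv
  have ht : ∀ x, t x = x + Ψ.B x v • v := fun x => rfl
  have htI : t ∈ Ψ.Iso := by
    refine ⟨fun x y => ?_, fun x => by rw [hΨ.q, hΨ.q]⟩
    rw [ht, ht, Ψ.add_left, Ψ.add_right, Ψ.add_right, Ψ.smul_left, Ψ.smul_left, Ψ.smul_right, Ψ.smul_right, hΨ.s,
      hΨ.alt, hsk v y]
    ring
  have h1 := (h htI).2
  apply hv0
  refine h0 v fun y => ?_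
  have h2 : Q₀ (t y) = Q₀ y := h1 y
  rw [ht, Q_add, QuadraticMap.map_smul, hv, polar_smul_right, hB, smul_zero, add_zero, smul_eq_mul] at h2
  have h3 : Ψ.B y v * (c * Ψ.B y v) = 0 := left_eq_add.1 h2.symm
  have h4 : Ψ.B y v = 0 := by
    rcases mul_eq_zero.1 h3 with h4 | h4
    · exact h4
    · exact (mul_eq_zero.1 h4).resolve_left hc
  show polar Q₀ v y = 0
  rw [polar_comm, hB, h4, mul_zero]

/-- an isometry of the polar form of a quadratic form in characteristic two which fixes `Q`: `E Q ≤ Ψ.Iso` -/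
theorem E_le_iso {Ψ : Frm F U} (hΨ : IsSp Ψ) {Q : QuadraticForm F U} (hB : ∀ x y, polar Q x y = Ψ.B x y) :
    E Q ≤ Ψ.Iso := by
  intro g hg
  refine ⟨fun x y => ?_, fun x => by rw [hΨ.q, hΨ.q]⟩
  rw [← hB, ← hB, polar_map (E_le_O hg)]

/-- characteristic two: the quadratic forms with a given alternating polar form -/
theorem exists_quad [Module.Finite F U] {Ψ : Frm F U} (hΨ : IsSp Ψ) (h2 : (2 : F) = 0) :
    ∃ Q : QuadraticForm F U, ∀ x y, polar Q x y = Ψ.B x y := by
  classical
  let b := Module.finBasis F U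
  -- `Ψ.B` as a bilinear form
  let B₀ : LinearMap.BilinForm F U := LinearMap.mk₂ F Ψ.B Ψ.add_left (fun a x y => by rw [Ψ.smul_left, smul_eq_mul])
    Ψ.add_right (fun a x y => by rw [Ψ.smul_right, hΨ.s, smul_eq_mul])
  have hB₀ : ∀ x y, B₀ x y = Ψ.B x y := fun x y => rfl
  let B₁ : LinearMap.BilinForm F U :=
    Matrix.toLinearMap₂ b b (Matrix.of fun i j => if i < j then Ψ.B (b i) (b j) else 0)
  have hB₁ : ∀ i j, B₁ (b i) (b j) = if i < j then Ψ.B (b i) (b j) else 0 := by
    intro i j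
    rw [← LinearMap.toMatrix₂_apply b b B₁ i j, LinearMap.toMatrix₂_toLinearMap₂, Matrix.of_apply]
  have hsum : B₁ + B₁.flip = B₀ := by
    refine LinearMap.BilinForm.ext_basis b fun i j => ?_
    rw [LinearMap.add_apply, LinearMap.add_apply, LinearMap.BilinForm.flip_apply, hB₁, hB₁, hB₀]
    rcases lt_trichotomy i j with hij | hij | hij
    · rw [if_pos hij, if_neg (not_lt.2 hij.le), add_zero]
    · rw [if_neg (by rw [hij]; exact lt_irrefl _), if_neg (by rw [hij]; exact lt_irrefl _), add_zero, hij, hΨ.alt]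
    · rw [if_neg (not_lt.2 hij.le), if_pos hij, zero_add]
      have h1 := hΨ.alt (b i + b j)
      rw [Ψ.add_left, Ψ.add_right, Ψ.add_right, hΨ.alt, hΨ.alt, zero_add, add_zero] at h1
      have h3 : Ψ.B (b j) (b i) + Ψ.B (b j) (b i) = 0 := by rw [← two_mul, h2, zero_mul]
      exact (add_right_cancel (h3.trans h1.symm))
  refine ⟨B₁.toQuadraticMap, fun x y => ?_⟩
  rw [LinearMap.BilinMap.polar_toQuadraticMap, ← hB₀ x y, ← hsum]
  rfl

end Cfsg.Agent.H27.UK
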